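import Groth.Agent.Desc19b.SmoothFppf.PtsPull
import Groth.Agent.S0109
import Groth.Agent.NeronModel27.GaSmoothBase
import Groth.Agent.SGA3cLib.DiagPoints

/-!
# The fppf cohomology of the additive group on affine schemes
-/

set_option autoImplicit false
set_option backward.isDefEq.respectTransparency false
set_option backward.isDefEq.respectTransparency.types false
set_option synthInstance.maxHeartbeats 400000
set_option maxHeartbeats 1000000

universe u

open CategoryTheory CategoryTheory.Limits CategoryTheory.Abelian AlgebraicGeometry Opposite MonObj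
open Groth.Agent.SGA3cLib

namespace Groth.Agent.GaDualLib.GaFppf

/-- The points of the additive group are the global functions. -/
noncomputable def gaEquivFn {X : Scheme.{u}} (T : Over X) : (T ⟶ Red.Ga X) ≃ Γ(T.left, ⊤) :=
  Equiv.ofBijective Red.gaFn ⟨fun _ _ h => gaFn_injective h, fun r => exists_gaFn r⟩

/-- On the small étale site the points of the additive group are `EtCoh.Ga`. -/
noncomputable def aPushPtsIso (X : Scheme.{u}) [EtFppf.ACont X] :
    (EtFppf.aPush X).obj (CGrpSh.pts Scheme.fppfPrecoverage (Red.Ga X)) ≅ EtCoh.Ga X :=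
  (sheafToPresheaf _ AddCommGrpCat.{u + 1}).preimageIso <| NatIso.ofComponents
    (fun U => AddEquiv.toAddCommGrpIso
      { toFun := fun x => ULift.up (Red.gaFn x.down.toMul)
        invFun := fun r => ULift.up (Additive.ofMul ((gaEquivFn ((EtFppf.a X).obj U.unop)).symm r.down))
        left_inv := fun x => ULift.ext _ _ ((gaEquivFn ((EtFppf.a X).obj U.unop)).symm_apply_apply x.down.toMul)
        right_inv := fun r => ULift.ext _ _ ((gaEquivFn ((EtFppf.a X).obj U.unop)).apply_symm_apply r.down)
        map_add' := fun x y => ULift.ext _ _ (gaFn_mul x.down.toMul y.down.toMul) })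
    (fun f => by
      ext x
      exact congrArg ULift.up (gaFn_comp ((EtFppf.a X).map f.unop) x.down.toMul))

/-- Higher fppf cohomology of the additive group on an affine scheme vanishes. -/
theorem subsingleton_H_Ga (X : Scheme.{u}) [IsAffine X] (n : ℕ) (hn : 0 < n) :
    Subsingleton (BigSite.H Scheme.fppfPrecoverage X (CGrpSh.pts Scheme.fppfPrecoverage (Red.Ga X)) n) := by
  haveI : Smooth (Red.Ga X).hom := NeronModel27.smooth_ga X
  have hM : Desc19b.SmoothFppf.GoodCoeff (X := X) (CGrpSh.pts Scheme.fppfPrecoverage (Red.Ga X)) :=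
    Desc19b.SmoothFppf.goodCoeff_of_rep fun T =>
      ⟨Desc19b.SmoothFppf.repPts (Red.Ga X) T, MorphismProperty.pullback_snd _ _ ‹Smooth (Red.Ga X).hom›⟩
  obtain ⟨e⟩ := Desc19b.SmoothFppf.nonempty_H_equiv_HF hM n
  haveI := Groth.Agent.S0109.result X n hn
  haveI : Subsingleton (EtCoh.H X ((EtFppf.aPush X).obj (CGrpSh.pts Scheme.fppfPrecoverage (Red.Ga X))) n) :=
    @Equiv.subsingleton _ _ ((EtCoh.HF X n).mapIso (aPushPtsIso X)).addCommGroupIsoToAddEquiv.toEquiv
      (Groth.Agent.S0109.result X n hn)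
  exact e.symm.toEquiv.subsingleton

/-- Dévissage along a filtration with additive quotients. -/
theorem subsingleton_H_tower (X : Scheme.{u}) [IsAffine X]
    {n : ℕ} (U : Fin (n + 1) → Over X) [∀ j, GrpObj (U j)] [∀ j, IsCommMonObj (U j)]
    (incl : ∀ j : Fin n, U j.castSucc ⟶ U j.succ) (proj : ∀ j : Fin n, U j.succ ⟶ Red.Ga X)
    [∀ j, IsMonHom (incl j)] [∀ j, IsMonHom (proj j)] (hw : ∀ j, incl j ≫ proj j = 1)
    (hex : ∀ j, (CGrpSh.seq Scheme.fppfPrecoverage (incl j) (proj j) (hw j)).ShortExact)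
    (h0 : IsZero (CGrpSh.pts Scheme.fppfPrecoverage (U 0))) (i : ℕ) (hi : 0 < i) (j : Fin (n + 1)) :
    Subsingleton (BigSite.H Scheme.fppfPrecoverage X (CGrpSh.pts Scheme.fppfPrecoverage (U j)) i) := by
  induction j using Fin.induction with
  | zero =>
    refine subsingleton_of_forall_eq 0 fun x => ?_
    have h1 : ∀ {A : BigSite.Ab Scheme.fppfPrecoverage X} (y : Ext A (CGrpSh.pts Scheme.fppfPrecoverage (U 0)) i), y = 0 :=
      fun y => (Ext.comp_mk₀_id y).symm.trans (by rw [h0.eq_of_src (𝟙 _) 0, Ext.mk₀_zero, Ext.comp_zero])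
    exact h1 x
  | succ j ih =>
    haveI := ih
    haveI := subsingleton_H_Ga X i hi
    refine subsingleton_of_forall_eq 0 fun x => ?_
    obtain ⟨y, hy⟩ := Ext.covariant_sequence_exact₂ _ (hex j) x
      (@Subsingleton.elim (BigSite.H Scheme.fppfPrecoverage X (CGrpSh.pts Scheme.fppfPrecoverage (Red.Ga X)) i) _ _ _)
    have h1 : y = 0 := @Subsingleton.elim (BigSite.H Scheme.fppfPrecoverage X (CGrpSh.pts Scheme.fppfPrecoverage (U j.castSucc)) i) _ y 0
    rw [h1, Ext.zero_comp] at hy
    exact hy.symm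

end Groth.Agent.GaDualLib.GaFppf
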