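import Groth.Agent.CAlgH3.GaGmExt
import Groth.Agent.CAlgH3.HomShAcyclic
import Groth.Agent.Et18.KummerH1.Punctured
import Mathlib.RingTheory.Polynomial.UniqueFactorization

/-!
# Lifting homomorphisms from split unipotent groups through quotients of injectives
-/

set_option autoImplicit false
set_option backward.isDefEq.respectTransparency false
set_option backward.isDefEq.respectTransparency.types false
set_option synthInstance.maxHeartbeats 400000
set_option maxHeartbeats 1000000

universe u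

open CategoryTheory CategoryTheory.Limits AlgebraicGeometry Opposite MonObj CartesianMonoidalCategory
open MonoidalCategory Groth.Agent.SGA3cLib

namespace Groth.Agent.GaDualLib.SplitUnipotent

/-- Invertible modules on an affine factorial scheme are trivial. -/
theorem invertible_trivial_of_ufd (Y : Scheme.{u}) [IsAffine Y] [IsDomain Γ(Y, ⊤)] [UniqueFactorizationMonoid Γ(Y, ⊤)]
    (L : Y.Modules) (hL : PicF.IsInvertible L) : Nonempty (L ≅ Coh.structureModule Y) := by
  obtain ⟨s, hs⟩ := UfdExt24.exists_gen_of_affine_ufd (isAffineOpen_top Y) (U := ⊤) le_top L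
    fun y _ => by
      obtain ⟨V, hy, s, hs⟩ := PicLib.exists_isGen hL y
      exact ⟨V, hy, le_top, s, hs⟩
  exact TwistLib.nonempty_iso_of_isGen_top hs

/-- The additive group is the affine line. -/
theorem nonempty_iso_affineLine (X : Scheme.{u}) :
    Nonempty (Over.mk (𝔸(PUnit.{u + 1}; X) ↘ X) ≅ Red.Ga X) := by
  obtain ⟨x, hx⟩ := exists_gaFn (X := Over.mk (𝔸(PUnit.{u + 1}; X) ↘ X)) (AffineSpace.coord X (PUnit.unit : PUnit.{u + 1}))
  let y : Red.Ga X ⟶ Over.mk (𝔸(PUnit.{u + 1}; X) ↘ X) := Over.homMk (AffineSpace.homOfVector (Red.Ga X).hom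
    (fun _ => Red.gaFn (𝟙 (Red.Ga X)))) (AffineSpace.homOfVector_over _ _)
  refine ⟨⟨x, y, ?_, ?_⟩⟩
  · apply Over.OverMorphism.ext
    refine AffineSpace.hom_ext ?_ fun i => ?_
    · rw [Over.comp_left, Category.assoc]
      simp only [y, Over.homMk_left, AffineSpace.homOfVector_over]
      exact (Over.w x).trans (Category.id_comp _).symm
    · rw [Over.comp_left, Scheme.Hom.comp_appTop, CommRingCat.comp_apply]
      simp only [y, Over.homMk_left, AffineSpace.homOfVector_appTop_coord]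
      rw [← gaFn_comp, Category.comp_id, hx]
      simp
  · refine gaFn_injective ?_
    rw [gaFn_comp, hx]
    exact AffineSpace.homOfVector_appTop_coord _ _ _

/-- The Picard group of the additive group over a field is trivial. -/
theorem pic_Ga_field (k : Type u) [Field k] (L : (Red.Ga (Spec (CommRingCat.of k))).left.Modules)
    (hL : PicF.IsInvertible L) :
    Nonempty (L ≅ Coh.structureModule (Red.Ga (Spec (CommRingCat.of k))).left) := by
  obtain ⟨e₀⟩ := nonempty_iso_affineLine (Spec (CommRingCat.of k))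
  let P := MvPolynomial PUnit.{u + 1} k
  let e : (Red.Ga (Spec (CommRingCat.of k))).left ≅ Spec (CommRingCat.of P) :=
    ((Over.forget _).mapIso e₀).symm ≪≫ AffineSpace.SpecIso PUnit.{u + 1} (CommRingCat.of k)
  haveI : IsAffine (Red.Ga (Spec (CommRingCat.of k))).left := IsAffine.of_isIso e.hom
  haveI : IsIso e.hom.appTop := inferInstance
  let ψ : Γ((Red.Ga (Spec (CommRingCat.of k))).left, ⊤) ≅ CommRingCat.of P :=
    (asIso e.hom.appTop).symm ≪≫ Scheme.ΓSpecIso (CommRingCat.of P)
  haveI : IsDomain Γ((Red.Ga (Spec (CommRingCat.of k))).left, ⊤) :=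
    ψ.commRingCatIsoToRingEquiv.toMulEquiv.isDomain P
  haveI : UniqueFactorizationMonoid Γ((Red.Ga (Spec (CommRingCat.of k))).left, ⊤) :=
    ψ.commRingCatIsoToRingEquiv.symm.toMulEquiv.uniqueFactorizationMonoid inferInstance
  exact invertible_trivial_of_ufd _ L hL

/-- Homomorphisms from a split unipotent group to the quotient of an injective by `𝔾ₘ` lift. -/
theorem exists_lift {X : Scheme.{u}} [IsReduced X]
    (hPic : ∀ L : (Red.Ga X).left.Modules, PicF.IsInvertible L →
      Nonempty (L ≅ Coh.structureModule (Red.Ga X).left))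
    {F G : BigSite.Ab Scheme.fppfPrecoverage X}
    (f : CGrpSh.pts Scheme.fppfPrecoverage (Red.Gm X) ⟶ F) (g : F ⟶ G) (w : f ≫ g = 0)
    (hS : (ShortComplex.mk f g w).ShortExact) [Injective F]
    {n : ℕ} (U : Fin (n + 1) → Over X) [∀ j, GrpObj (U j)] [∀ j, IsCommMonObj (U j)]
    (incl : ∀ j : Fin n, U j.castSucc ⟶ U j.succ) (proj : ∀ j : Fin n, U j.succ ⟶ Red.Ga X)
    [∀ j, IsMonHom (incl j)] [∀ j, IsMonHom (proj j)] (hw : ∀ j, incl j ≫ proj j = 1)
    (hex : ∀ j, (CGrpSh.seq Scheme.fppfPrecoverage (incl j) (proj j) (hw j)).ShortExact)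
    (h0 : IsZero (CGrpSh.pts Scheme.fppfPrecoverage (U 0))) (j : Fin (n + 1)) :
    ∀ φ : CGrpSh.pts Scheme.fppfPrecoverage (U j) ⟶ G,
      ∃ ψ : CGrpSh.pts Scheme.fppfPrecoverage (U j) ⟶ F, ψ ≫ g = φ := by
  induction j using Fin.induction with
  | zero => exact fun φ => ⟨0, h0.eq_of_src _ _⟩
  | succ j ih =>
    intro φ
    let u₁ : CGrpSh.pts Scheme.fppfPrecoverage (U j.castSucc) ⟶ CGrpSh.pts Scheme.fppfPrecoverage (U j.succ) :=
      CGrpSh.ptsMap Scheme.fppfPrecoverage (incl j)
    let π : CGrpSh.pts Scheme.fppfPrecoverage (U j.succ) ⟶ CGrpSh.pts Scheme.fppfPrecoverage (Red.Ga X) :=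
      CGrpSh.ptsMap Scheme.fppfPrecoverage (proj j)
    haveI : Mono u₁ := (hex j).mono_f
    haveI : Epi π := (hex j).epi_g
    obtain ⟨ψ, hψ⟩ := ih (u₁ ≫ φ)
    let ψ' := Injective.factorThru ψ u₁
    have hk : u₁ ≫ (φ - ψ' ≫ g) = 0 := by
      rw [Preadditive.comp_sub, ← Category.assoc, Injective.comp_factorThru, hψ, sub_self]
    obtain ⟨χ, hχ⟩ := (hex j).gIsCokernel |> fun h => CokernelCofork.IsColimit.desc' h (φ - ψ' ≫ g) hk
    obtain ⟨χ', hχ'⟩ := CAlgH3.GaGmExt.exists_hom_lift f g w hS hPic χ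
    refine ⟨ψ' + π ≫ χ', ?_⟩
    rw [Preadditive.add_comp, Category.assoc, hχ', show π ≫ χ = φ - ψ' ≫ g from hχ]
    exact add_sub_cancel _ _

end Groth.Agent.GaDualLib.SplitUnipotent
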